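import Mathlib

/-!
Complexes in a Serre quotient lift to complexes.
-/

universe v u v' u'

open CategoryTheory CategoryTheory.Limits HomologicalComplex

namespace Groth.Agent.SerreSub

variable {A : Type u} [Category.{v} A] [Abelian A] (P : ObjectProperty A) [P.IsSerreClass]
  {Q : Type u'} [Category.{v'} Q] [Abelian Q] (L : A ⥤ Q) [L.IsLocalization P.isoModSerre] [L.Additive]
  (K : CochainComplex Q ℤ)

/-- a lift of the complex in degrees `n` and `n + 1` -/
structure Pair (n : ℤ) where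
  /-- degree n -/
  a : A
  /-- degree n+1 -/
  b : A
  /-- the differential -/
  d : a ⟶ b
  /-- comparison in degree n -/
  ea : L.obj a ≅ K.X n
  /-- comparison in degree n+1 -/
  eb : L.obj b ≅ K.X (n + 1)
  comm : L.map d ≫ eb.hom = ea.hom ≫ K.d n (n + 1)

include P in
theorem exists_pair (n : ℤ) : Nonempty (Pair L K n) := by
  haveI := Localization.essSurj L P.isoModSerre
  let eb := L.objObjPreimageIso (K.X (n + 1))
  let ea := L.objObjPreimageIso (K.X n)
  obtain ⟨z, hz⟩ := Localization.exists_rightFraction L P.isoModSerre (ea.hom ≫ K.d n (n + 1) ≫ eb.inv)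
  haveI := Localization.inverts L P.isoModSerre z.s z.hs
  refine ⟨⟨_, _, z.f, asIso (L.map z.s) ≪≫ ea, eb, ?_⟩⟩
  rw [← z.map_s_comp_map L (Localization.inverts L P.isoModSerre), ← hz]
  simp

include P in
theorem exists_prev (n : ℤ) (s : Pair L K (n + 1)) :
    ∃ (c : A) (g : c ⟶ s.a) (ec : L.obj c ≅ K.X n),
      L.map g ≫ s.ea.hom = ec.hom ≫ K.d n (n + 1) ∧ g ≫ s.d = 0 := by
  haveI := Localization.essSurj L P.isoModSerre
  let e₀ := L.objObjPreimageIso (K.X n)
  obtain ⟨z, hz⟩ := Localization.exists_rightFraction L P.isoModSerre (e₀.hom ≫ K.d n (n + 1) ≫ s.ea.inv)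
  haveI := Localization.inverts L P.isoModSerre z.s z.hs
  have hzf : L.map z.f ≫ s.ea.hom = L.map z.s ≫ e₀.hom ≫ K.d n (n + 1) := by
    rw [← z.map_s_comp_map L (Localization.inverts L P.isoModSerre), ← hz]
    simp
  have h0 : L.map (z.f ≫ s.d) = L.map 0 := by
    rw [← cancel_mono s.eb.hom, L.map_comp, Category.assoc, s.comm, reassoc_of% hzf, K.d_comp_d,
      L.map_zero]
    simp
  obtain ⟨W, t, ht, htz⟩ := (MorphismProperty.map_eq_iff_precomp L P.isoModSerre _ _).1 h0
  haveI := Localization.inverts L P.isoModSerre t ht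
  refine ⟨W, t ≫ z.f, asIso (L.map t) ≪≫ asIso (L.map z.s) ≪≫ e₀, ?_, ?_⟩
  · simp [hzf]
  · rw [Category.assoc, htz, comp_zero]

include P in
theorem exists_next (n : ℤ) (s : Pair L K n) :
    ∃ (c : A) (g : s.b ⟶ c) (ec : L.obj c ≅ K.X (n + 1 + 1)),
      L.map g ≫ ec.hom = s.eb.hom ≫ K.d (n + 1) (n + 1 + 1) ∧ s.d ≫ g = 0 := by
  haveI := Localization.essSurj L P.isoModSerre
  let e₀ := L.objObjPreimageIso (K.X (n + 1 + 1))
  obtain ⟨z, hz⟩ := Localization.exists_leftFraction L P.isoModSerre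
    (s.eb.hom ≫ K.d (n + 1) (n + 1 + 1) ≫ e₀.inv)
  haveI := Localization.inverts L P.isoModSerre z.s z.hs
  have hzf : L.map z.f = s.eb.hom ≫ K.d (n + 1) (n + 1 + 1) ≫ e₀.inv ≫ L.map z.s := by
    rw [← z.map_comp_map_s L (Localization.inverts L P.isoModSerre), ← hz]
    simp
  have h0 : L.map (s.d ≫ z.f) = L.map 0 := by
    rw [L.map_comp, hzf, reassoc_of% s.comm]
    simp
  obtain ⟨W, t, ht, htz⟩ := (MorphismProperty.map_eq_iff_postcomp L P.isoModSerre _ _).1 h0
  haveI := Localization.inverts L P.isoModSerre t ht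
  refine ⟨W, z.f ≫ t, (asIso (L.map t)).symm ≪≫ (asIso (L.map z.s)).symm ≪≫ e₀, ?_, ?_⟩
  · simp [hzf]
  · rw [← Category.assoc, htz, zero_comp]

include P in
/-- every complex in the quotient is isomorphic to the image of a complex -/
theorem exists_lift_complex :
    ∃ M : CochainComplex A ℤ, Nonempty ((L.mapHomologicalComplex (ComplexShape.up ℤ)).obj M ≅ K) := by
  classical
  obtain ⟨p₀⟩ := exists_pair P L K 0
  choose cp gp ep hcp hzp using exists_prev P L K
  choose cn gn en hcn hzn using exists_next P L K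
  let nextP : ∀ n, Pair L K n → Pair L K (n + 1) := fun n s =>
    ⟨s.b, cn n s, gn n s, s.eb, en n s, hcn n s⟩
  let prevP : ∀ n, Pair L K (n + 1) → Pair L K n := fun n s =>
    ⟨cp n s, s.a, gp n s, ep n s, s.ea, hcp n s⟩
  let up : ∀ k : ℕ, Pair L K (Int.ofNat k) := fun k =>
    Nat.rec (motive := fun k => Pair L K (Int.ofNat k)) p₀ (fun k s => nextP (Int.ofNat k) s) k
  let down : ∀ k : ℕ, Pair L K (Int.negSucc k) := fun k =>
    Nat.rec (motive := fun k => Pair L K (Int.negSucc k)) (prevP (Int.negSucc 0) p₀)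
      (fun k s => prevP (Int.negSucc (k + 1)) s) k
  let X : ℤ → A := fun n => match n with
    | Int.ofNat k => (up k).a
    | Int.negSucc k => (down k).a
  let d : ∀ n : ℤ, X n ⟶ X (n + 1) := fun n => match n with
    | Int.ofNat k => (up k).d
    | Int.negSucc 0 => (down 0).d
    | Int.negSucc (k + 1) => (down (k + 1)).d
  have sq : ∀ n : ℤ, d n ≫ d (n + 1) = 0 := fun n => match n with
    | Int.ofNat k => hzn (Int.ofNat k) (up k)
    | Int.negSucc 0 => hzp (Int.negSucc 0) p₀
    | Int.negSucc 1 => hzp (Int.negSucc 1) (down 0)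
    | Int.negSucc (k + 1 + 1) => hzp (Int.negSucc (k + 1 + 1)) (down (k + 1))
  let e : ∀ n : ℤ, L.obj (X n) ≅ K.X n := fun n => match n with
    | Int.ofNat k => (up k).ea
    | Int.negSucc k => (down k).ea
  refine ⟨CochainComplex.of X d sq, ⟨Hom.isoOfComponents e ?_⟩⟩
  rintro i j rfl
  show (e i).hom ≫ K.d i (i + 1) = L.map ((CochainComplex.of X d sq).d i (i + 1)) ≫ (e (i + 1)).hom
  refine Eq.trans ?_ (congrArg (fun t => L.map t ≫ (e (i + 1)).hom) (CochainComplex.of_d X d i)).symm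
  match i with
  | Int.ofNat k => exact (up k).comm.symm
  | Int.negSucc 0 => exact (down 0).comm.symm
  | Int.negSucc (k + 1) => exact (down (k + 1)).comm.symm

end Groth.Agent.SerreSub
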