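import Mathlib

/-!
A bounded above complex with cohomology in a Serre class `P` has a quasi-isomorphic subcomplex with
terms in `P`, provided epimorphisms onto objects of `P` can be lifted inside `P`.
-/

universe v u

open CategoryTheory CategoryTheory.Limits HomologicalComplex
open scoped ZeroObject

namespace Groth.Agent.SerreSub

variable {A : Type u} [Category.{v} A] [Abelian A]

/-- a stage of the construction: a subobject in `P` of the degree `p` term -/
structure St (P : ObjectProperty A) (C : CochainComplex A ℤ) (p : ℤ) where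
  /-- the subobject -/
  X : A
  /-- the inclusion -/
  i : X ⟶ C.X p
  hi : Mono i
  hX : P X

variable (P : ObjectProperty A) [P.IsSerreClass] (C : CochainComplex A ℤ)
  (hlift : ∀ (X Y : A) (π : X ⟶ Y), Epi π → P Y →
    ∃ (X' : A) (i : X' ⟶ X), Mono i ∧ P X' ∧ Epi (i ≫ π))
  (hH : ∀ n, P (C.homology n))

include hlift hH in
theorem exists_step (p : ℤ) (t : St P C (p + 1)) :
    ∃ s : St P C p, (∃ δ : s.X ⟶ t.X, δ ≫ t.i = s.i ≫ C.d p (p + 1)) ∧
      (∀ {W : A} (y : W ⟶ t.X) (c : W ⟶ C.X p), y ≫ t.i = c ≫ C.d p (p + 1) →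
        ∃ (W' : A) (π : W' ⟶ W) (_ : Epi π) (z : W' ⟶ s.X),
          π ≫ y ≫ t.i = z ≫ s.i ≫ C.d p (p + 1)) ∧
      (∀ {W : A} (h : W ⟶ C.homology p), ∃ (W' : A) (π : W' ⟶ W) (_ : Epi π) (z : W' ⟶ s.X)
        (u : W' ⟶ C.cycles p), z ≫ s.i = u ≫ C.iCycles p ∧ π ≫ h = u ≫ C.homologyπ p) := by
  haveI := t.hi
  let q := pullback.snd (C.d p (p + 1)) t.i
  have hT : P (image q) := P.prop_of_mono (image.ι q) t.hX
  obtain ⟨X₁, a, -, hX₁, he₁⟩ := hlift _ _ (factorThruImage q) inferInstance hT
  obtain ⟨X₂, e, -, hX₂, he₂⟩ := hlift _ _ (C.homologyπ p) inferInstance (hH p)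
  let g : X₁ ⊞ X₂ ⟶ C.X p :=
    biprod.desc (a ≫ pullback.fst _ _) (e ≫ C.iCycles p)
  have hPb : P (X₁ ⊞ X₂) :=
    P.prop_X₂_of_shortExact ((ShortComplex.Splitting.ofHasBinaryBiproduct X₁ X₂).shortExact) hX₁ hX₂
  let s : St P C p := ⟨image g, image.ι g, inferInstance, P.prop_of_epi (factorThruImage g) hPb⟩
  refine ⟨s, ?_, fun {W} y c hy => ?_, fun {W} h => ?_⟩
  · let γ : X₁ ⊞ X₂ ⟶ t.X := biprod.desc (a ≫ q) 0
    have hγ : γ ≫ t.i = g ≫ C.d p (p + 1) := by
      ext <;> simp [γ, g, q, pullback.condition]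
    let F' : MonoFactorisation g :=
      { I := pullback (C.d p (p + 1)) t.i
        m := pullback.fst _ _
        e := pullback.lift g γ hγ.symm
        fac := pullback.lift_fst _ _ _ }
    let δ' := image.lift F'
    exact ⟨δ' ≫ q, by
      rw [Category.assoc, ← pullback.condition, ← Category.assoc, image.lift_fac]⟩
  · let l : W ⟶ pullback (C.d p (p + 1)) t.i := pullback.lift c y hy.symm
    haveI := he₁
    obtain ⟨W', π, hπ, z, hz⟩ := surjective_up_to_refinements_of_epi (a ≫ factorThruImage q)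
      (l ≫ factorThruImage q)
    have hz' : π ≫ y = z ≫ a ≫ q := by
      have := congrArg (· ≫ image.ι q) hz
      simp only [Category.assoc, image.fac] at this
      rw [show l ≫ q = y from pullback.lift_snd _ _ _] at this
      exact this
    refine ⟨W', π, hπ, z ≫ biprod.inl ≫ factorThruImage g, ?_⟩
    simp only [s, Category.assoc, image.fac_assoc]
    rw [reassoc_of% hz']
    simp [g, q, pullback.condition]
  · haveI := he₂
    obtain ⟨W', π, hπ, x, hx⟩ := surjective_up_to_refinements_of_epi (e ≫ C.homologyπ p) h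
    exact ⟨W', π, hπ, x ≫ biprod.inr ≫ factorThruImage g, x ≫ e, by simp [s, g], by
      rw [hx, Category.assoc]⟩

include hlift hH in
/-- the chosen next stage -/
noncomputable def next (p : ℤ) (t : St P C (p + 1)) : St P C p :=
  (exists_step P C hlift hH p t).choose

/-- the zero stage -/
noncomputable def zeroSt (p : ℤ) : St P C p :=
  ⟨(ObjectProperty.ContainsZero.exists_zero (P := P)).choose, 0, ⟨fun _ _ _ => (ObjectProperty.ContainsZero.exists_zero (P := P)).choose_spec.1.eq_of_tgt _ _⟩,
    (ObjectProperty.ContainsZero.exists_zero (P := P)).choose_spec.2⟩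

variable (b : ℤ)

include hlift hH in
/-- the family, with fuel -/
noncomputable def fam : ℕ → ∀ p : ℤ, St P C p
  | 0, p => zeroSt P C p
  | k + 1, p => if b < p then zeroSt P C p else next P C hlift hH p (fam k (p + 1))

theorem fam_eq (k k' : ℕ) (p : ℤ) (h : b < p + k) (h' : b < p + k') :
    fam P C hlift hH b k p = fam P C hlift hH b k' p := by
  induction k generalizing k' p with
  | zero =>
    cases k' with
    | zero => rfl
    | succ k' =>
      simp only [fam]
      rw [if_pos (by omega)]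
  | succ k ih =>
    cases k' with
    | zero =>
      simp only [fam]
      rw [if_pos (by omega)]
    | succ k' =>
      simp only [fam]
      by_cases hp : b < p
      · rw [if_pos hp, if_pos hp]
      · rw [if_neg hp, if_neg hp, ih k' (p + 1) (by omega) (by omega)]

include hlift hH in
/-- the subobject in degree `p` -/
noncomputable def sub (p : ℤ) : St P C p := fam P C hlift hH b (b + 1 - p).toNat p

theorem sub_eq (p : ℤ) (hp : p ≤ b) :
    sub P C hlift hH b p = next P C hlift hH p (sub P C hlift hH b (p + 1)) := by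
  rw [sub, fam_eq P C hlift hH b _ ((b + 1 - (p + 1)).toNat + 1) p (by omega) (by omega), fam,
    if_neg (by omega)]
  rfl

theorem isZero_sub (p : ℤ) (hp : b < p) : IsZero (sub P C hlift hH b p).X := by
  rw [sub, fam_eq P C hlift hH b _ 0 p (by omega) (by omega)]
  exact (ObjectProperty.ContainsZero.exists_zero (P := P)).choose_spec.1

include hlift hH in
theorem exists_subcomplex [C.IsStrictlyLE b] :
    ∃ (M : CochainComplex A ℤ) (α : M ⟶ C), M.IsStrictlyLE b ∧ (∀ p, P (M.X p)) ∧ QuasiIso α := by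
  classical
  let S := sub P C hlift hH b
  have hz := isZero_sub P C hlift hH b
  have hs : ∀ p : ℤ, p ≤ b → _ := fun p hp =>
    (exists_step P C hlift hH p (S (p + 1))).choose_spec
  have hd : ∀ i j, ∃ δ : (S i).X ⟶ (S j).X, δ ≫ (S j).i = (S i).i ≫ C.d i j := by
    intro i j
    by_cases hij : i + 1 = j
    · subst hij
      by_cases hi : i ≤ b
      · obtain ⟨δ, hδ⟩ := (hs i hi).1
        rw [show S i = next P C hlift hH i (S (i + 1)) from sub_eq P C hlift hH b i hi]
        exact ⟨δ, hδ⟩
      · exact ⟨0, (hz i (by omega)).eq_of_src _ _⟩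
    · exact ⟨0, by rw [C.shape i j hij, comp_zero, zero_comp]⟩
  choose δ hδ using hd
  haveI : ∀ p, Mono (S p).i := fun p => (S p).hi
  let M : CochainComplex A ℤ :=
    { X := fun p => (S p).X
      d := δ
      shape := fun i j h => by rw [← cancel_mono (S j).i, hδ, C.shape i j h, comp_zero, zero_comp]
      d_comp_d' := fun i j k _ _ => by
        rw [← cancel_mono (S k).i, Category.assoc, hδ, reassoc_of% hδ i j, C.d_comp_d, comp_zero,
          zero_comp] }
  let α : M ⟶ C := { f := fun p => (S p).i, comm' := fun i j _ => (hδ i j).symm }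
  refine ⟨M, α, (CochainComplex.isStrictlyLE_iff _ _).2 fun p hp => hz p hp, fun p => (S p).hX,
    ⟨fun p => ?_⟩⟩
  by_cases hpb : b < p
  · rw [quasiIsoAt_iff_exactAt']
    · exact HomologicalComplex.ExactAt.of_isZero (hz p hpb)
    · exact HomologicalComplex.ExactAt.of_isZero (C.isZero_of_isStrictlyLE b p hpb)
  rw [quasiIsoAt_iff_isIso_homologyMap]
  obtain ⟨q, rfl⟩ : ∃ q, p = q + 1 := ⟨p - 1, by omega⟩
  refine @isIso_of_mono_of_epi _ _ _ _ _ _
    ((mono_homologyMap_iff_up_to_refinements α q (q + 1) (q + 1 + 1) (by simp) (by simp)).2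
      fun W x hx y hy => ?_)
    ((epi_homologyMap_iff_up_to_refinements α q (q + 1) (q + 1 + 1) (by simp) (by simp)).2
      fun W z hz' => ?_)
  · obtain ⟨W', π, hπ, z, hz'⟩ := (hs q (by omega)).2.1 x y hy
    have e := sub_eq P C hlift hH b q (by omega)
    refine ⟨W', π, hπ, z ≫ eqToHom (congrArg St.X e.symm), ?_⟩
    rw [← cancel_mono (S (q + 1)).i, Category.assoc, Category.assoc, Category.assoc]
    refine hz'.trans ?_
    show _ = z ≫ eqToHom _ ≫ δ q (q + 1) ≫ (S (q + 1)).i
    rw [hδ]
    have : ∀ {s t : St P C q} (h : s = t),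
        eqToHom (congrArg St.X h) ≫ t.i = s.i := by
      rintro s t rfl; simp
    exact congrArg (z ≫ ·) ((congrArg (· ≫ C.d q (q + 1)) (this e.symm)).symm.trans
      (Category.assoc _ _ _))
  · let h : W ⟶ C.homology (q + 1) :=
      C.liftCycles z (q + 1 + 1) (by simp) hz' ≫ C.homologyπ (q + 1)
    obtain ⟨W', π, hπ, x, u, hxu, hu⟩ := (hs (q + 1) (by omega)).2.2 h
    have e := sub_eq P C hlift hH b (q + 1) (by omega)
    let x' : W' ⟶ (S (q + 1)).X := x ≫ eqToHom (congrArg St.X e.symm)
    have hx' : x' ≫ (S (q + 1)).i = u ≫ C.iCycles (q + 1) := by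
      have : ∀ {s t : St P C (q + 1)} (h : s = t),
          eqToHom (congrArg St.X h) ≫ t.i = s.i := by
        rintro s t rfl; simp
      exact (Category.assoc _ _ _).trans ((congrArg (x ≫ ·) (this e.symm)).trans hxu)
    have h0 : (π ≫ C.liftCycles z (q + 1 + 1) (by simp) hz' - u) ≫ C.homologyπ (q + 1) = 0 := by
      rw [Preadditive.sub_comp, Category.assoc, sub_eq_zero]
      exact hu
    obtain ⟨W'', π', hπ', (w : W'' ⟶ C.X q), hw⟩ :=
      (ShortComplex.exact_of_g_is_cokernel
        (ShortComplex.mk (C.toCycles q (q + 1)) (C.homologyπ (q + 1)) (C.toCycles_comp_homologyπ _ _))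
        (C.homologyIsCokernel q (q + 1) (by simp))).exact_up_to_refinements _ h0
    refine ⟨W'', π' ≫ π, inferInstance, π' ≫ x', ?_, w, ?_⟩
    · rw [← cancel_mono (S (q + 1 + 1)).i, Category.assoc, zero_comp, Category.assoc]
      show _ ≫ _ ≫ δ (q + 1) (q + 1 + 1) ≫ _ = 0
      rw [hδ, reassoc_of% hx', C.iCycles_d, comp_zero, comp_zero]
    · have h2 := congrArg (· ≫ C.iCycles (q + 1)) hw
      simp only [Category.assoc, Preadditive.sub_comp, Preadditive.comp_sub,
        HomologicalComplex.toCycles_i, HomologicalComplex.liftCycles_i] at h2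
      show (π' ≫ π) ≫ z = (π' ≫ x') ≫ (S (q + 1)).i + w ≫ C.d q (q + 1)
      rw [Category.assoc, Category.assoc, hx', ← h2]
      abel

end Groth.Agent.SerreSub
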